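import Cfsg.Agent.Lib.Chev.E6Form.Rep
import Cfsg.Agent.Lib.KnownB.Fi22Mult.Vec

/-!
Lists of bit-plane vectors read as matrices on the 27 coordinates, over a field of characteristic two
with a root `w` of `w² + w + 1`.
-/

set_option autoImplicit false
set_option maxRecDepth 100000
set_option linter.unusedSectionVars false

namespace CfsgLib.Chev.E62Fi22

open Matrix CfsgLib.Chev.E6Form
open CfsgLib.KnownB.Fi22Mult.Rep (Vc vx wm sh sel app)

/-- number of a coordinate -/
def pos (i : ι) : ℕ := 9 * i.1.val + 3 * i.2.1.val + i.2.2.val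

theorem pos_check : (∀ i : ι, pos i < 27 ∧ cd (pos i) = i) ∧ ∀ n < 27, pos (cd n) = n := by
  decide +kernel

theorem pos_lt (i : ι) : pos i < 27 := (pos_check.1 i).1

theorem cd_pos (i : ι) : cd (pos i) = i := (pos_check.1 i).2

theorem pos_cd {n : ℕ} (h : n < 27) : pos (cd n) = n := pos_check.2 n h

theorem pos_inj {i j : ι} (h : pos i = pos j) : i = j := by rw [← cd_pos i, h, cd_pos]

variable {K : Type*} [Field K] [CharP K 2] (w : K)

/-- value of a bit -/
def bitv (b : Bool) : K := bif b then 1 else 0

theorem bitv_xor (a b : Bool) : (bitv (a ^^ b) : K) = bitv a + bitv b := by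
  cases a <;> cases b <;> simp [bitv, CharTwo.add_self_eq_zero]

/-- value of one position -/
def dec (v : Vc) (p : ℕ) : K := bitv (v.1.testBit p) + bitv (v.2.testBit p) * w

/-- a vector -/
def vecOf (v : Vc) : ι → K := fun i => dec w v (pos i)

/-- a matrix with the given columns -/
def matOf (A : List Vc) : Matrix ι ι K := fun i k => dec w (A.getD (pos k) (0, 0)) (pos i)

theorem dec_vx (u v : Vc) (p : ℕ) : dec w (vx u v) p = dec w u p + dec w v p := by
  simp only [dec, vx, Nat.testBit_xor, bitv_xor]
  ring

theorem dec_zero (p : ℕ) : dec w (0, 0) p = 0 := by simp [dec, bitv]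

theorem dec_sel (b : Bool) (r : Vc) (p : ℕ) : dec w (sel b r) p = bitv b * dec w r p := by
  cases b <;> simp [sel, dec_zero, bitv]

variable {w}

theorem dec_wm (hw : w * w = w + 1) (v : Vc) (p : ℕ) : dec w (wm v) p = w * dec w v p := by
  simp only [dec, wm, Nat.testBit_xor, bitv_xor]
  linear_combination -(bitv (v.2.testBit p) : K) * hw

theorem dec_sh {k p : ℕ} (v : Vc) (h : p < k) : dec w (sh k v) p = 0 := by
  simp [dec, sh, bitv, show ¬ k ≤ p by omega]

theorem dec_app (hw : w * w = w + 1) : ∀ (A : List Vc) (k : ℕ) (v : Vc) (p : ℕ), p < k + A.length →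
    dec w (app A k v) p = ∑ j ∈ Finset.range A.length, dec w v j * dec w (A.getD j (0, 0)) p
  | [], k, v, p, h => by
    rw [app, dec_sh v (by simpa using h)]
    simp
  | r :: rs, k, v, p, h => by
    rw [app, dec_vx, dec_vx, dec_sel, dec_sel, dec_wm hw,
      dec_app hw rs (k + 1) _ p (by simp only [List.length_cons] at h; omega), List.length_cons,
      Finset.sum_range_succ']
    have e : ∀ j, dec w ((v.1 >>> 1, v.2 >>> 1) : Vc) j = dec w v (j + 1) := fun j => by
      simp [dec, Nat.add_comm 1 j]
    simp only [e, List.getD_cons_succ, List.getD_cons_zero]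
    unfold dec
    ring

theorem vecOf_app (hw : w * w = w + 1) {A : List Vc} (hA : A.length = 27) (v : Vc) :
    vecOf w (app A 0 v) = matOf w A *ᵥ vecOf w v := by
  funext i
  show dec w (app A 0 v) (pos i) = ∑ k, matOf w A i k * vecOf w v k
  rw [dec_app hw A 0 v (pos i) (by rw [hA, Nat.zero_add]; exact pos_lt i), hA]
  symm
  refine Finset.sum_bij (fun k _ => pos k) (fun k _ => Finset.mem_range.2 (pos_lt k))
    (fun a _ b _ h => pos_inj h) (fun n hn => ⟨cd n, Finset.mem_univ _, pos_cd (Finset.mem_range.1 hn)⟩) ?_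
  intro k _
  exact mul_comm _ _

theorem matOf_col (A : List Vc) (k : ι) : (fun i => matOf w A i k) = vecOf w (A.getD (pos k) (0, 0)) := rfl

theorem getD_map (f : Vc → Vc) {A : List Vc} {n : ℕ} (h : n < A.length) :
    (A.map f).getD n (0, 0) = f (A.getD n (0, 0)) := by
  simp [List.getD_eq_getElem?_getD, List.getElem?_map, List.getElem?_eq_getElem h]

theorem matOf_map_app (hw : w * w = w + 1) {A B : List Vc} (hA : A.length = 27) (hB : B.length = 27) :
    matOf w (A.map (app B 0)) = matOf w B * matOf w A := by
  ext i k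
  have h := congrFun (vecOf_app hw hB (A.getD (pos k) (0, 0))) i
  rw [show matOf w (A.map (app B 0)) i k = dec w ((A.map (app B 0)).getD (pos k) (0, 0)) (pos i) from rfl,
    getD_map _ (by rw [hA]; exact pos_lt k)]
  exact h

theorem matOf_zipWith {A B : List Vc} (hA : A.length = 27) (hB : B.length = 27) :
    matOf w (List.zipWith vx A B) = matOf w A + matOf w B := by
  ext i k
  have hk := pos_lt k
  show dec w ((List.zipWith vx A B).getD (pos k) (0, 0)) (pos i) = _
  simp only [matOf, Matrix.add_apply, List.getD_eq_getElem?_getD]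
  rw [List.getElem?_eq_getElem (by simp [hA, hB, hk]), List.getElem?_eq_getElem (by rw [hA]; exact hk),
    List.getElem?_eq_getElem (by rw [hB]; exact hk)]
  simp [List.getElem_zipWith, dec_vx]

/-- the columns of a scalar -/
def scRows (c : Vc → Vc) : List Vc := (List.range 27).map fun k => c (1 <<< k, 0)

theorem matOf_id : matOf w (scRows id) = 1 := by
  ext i k
  show dec w (((List.range 27).map fun k => id ((1 <<< k, 0) : Vc)).getD (pos k) (0, 0)) (pos i) = _
  rw [List.getD_eq_getElem?_getD, List.getElem?_map, List.getElem?_range (pos_lt k)]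
  simp only [Option.map_some, Option.getD_some, id, dec, bitv, Nat.zero_testBit, cond_false, zero_mul,
    add_zero, Nat.one_shiftLeft, Nat.testBit_two_pow]
  by_cases h : i = k
  · subst h; simp
  · rw [Matrix.one_apply_ne h]
    rw [decide_eq_false fun e : pos k = pos i => h (pos_inj e).symm]
    rfl

theorem matOf_wm (hw : w * w = w + 1) {A : List Vc} (hA : A.length = 27) :
    matOf w (A.map wm) = w • matOf w A := by
  ext i k
  show dec w ((A.map wm).getD (pos k) (0, 0)) (pos i) = _
  rw [getD_map _ (by rw [hA]; exact pos_lt k), dec_wm hw]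
  rfl

end CfsgLib.Chev.E62Fi22
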