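import Cfsg.Agent.Lib.Chev.E62Fi22.Hom
import Cfsg.Agent.Lib.Spor.Fi22.Simple
import Cfsg.Prelude.Def_KGroupFacts

/-!
Three classes of a subgroup of `Fi₂₂` in the twisted group of type E6 over four elements: the subgroup
has to contain the last eight nodes and to have an outer automorphism group of order two.
-/

set_option autoImplicit false
set_option maxRecDepth 100000

namespace CfsgLib.Chev.E62Fi22

open Cfsg.Lie Matrix CfsgLib.Chev CfsgLib.Chev.E6Form
open CfsgLib.KnownB.Fi22Mult (posG ndG posG_lt posG_ndG)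
open CfsgLib.Chev.E62F4 (torX torX_conj_xG)

variable {K : Type*} [Field K]

theorem twisted_le_group : twistedE6 K 2 ≤ chevE6.group K := by
  rw [twistedE6, genSubgroup_eq stdE6.good, Subgroup.closure_le]
  rintro y ⟨u, -, rfl⟩
  exact Subgroup.list_prod_mem _ fun z hz => by
    obtain ⟨c, -, rfl⟩ := List.mem_map.1 hz
    exact xG_mem_group stdE6.good _ _

variable [Fintype K]

/-- a field of four elements has a root of `w² + w + 1` -/
theorem exists_w (hK : Fintype.card K = 4) :
    ∃ w : Kˣ, (w : K) * w = w + 1 ∧ ∀ u : Kˣ, u ^ 3 = 1 := by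
  classical
  haveI : Fact (Nat.Prime 2) := ⟨Nat.prime_two⟩
  haveI hchar : CharP K 2 := charP_of_card_eq_prime_pow (p := 2) (f := 2) hK
  have h3 : ∀ u : Kˣ, u ^ 3 = 1 := fun u => by
    have h := FiniteField.pow_card_sub_one_eq_one (u : K) u.ne_zero
    rw [hK] at h
    exact Units.ext (by simpa using h)
  obtain ⟨w, hw⟩ : ∃ w : Kˣ, w ≠ 1 := by
    by_contra hcon
    push Not at hcon
    have hc3 : Nat.card Kˣ = 3 := by rw [Nat.card_units, Nat.card_eq_fintype_card, hK]
    haveI : Subsingleton Kˣ := ⟨fun a b => by rw [hcon a, hcon b]⟩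
    rw [Nat.card_unique] at hc3
    omega
  refine ⟨w, ?_, h3⟩
  have h1 : ((w : K) - 1) * ((w : K) * w + w + 1) = 0 := by
    have := congrArg Units.val (h3 w)
    rw [Units.val_pow_eq_pow_val, Units.val_one] at this
    linear_combination this
  rcases mul_eq_zero.1 h1 with h | h
  · exact absurd (Units.ext (sub_eq_zero.1 h)) hw
  · linear_combination h - CharTwo.add_self_eq_zero (w : K) - CharTwo.add_self_eq_zero (1 : K)

/-- the parameters of the torus element -/
def xiT (w : Kˣ) : ℕ → Kˣ := fun i => [w, 1, 1, 1, 1, w ^ 2].getD i 1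

theorem wt_xiT (w : Kˣ) (h3 : ∀ u : Kˣ, u ^ 3 = 1) {r : ℕ} (hr : r ∈ roots) (n : ℕ) :
    wt chevE6 auxE6 (xiT w ^ n) r = w ^ (n * rootExp r) := by
  have g := stdE6.good
  have hs : chevE6.simple 0 = 56 ∧ chevE6.simple 1 = 46 ∧ chevE6.simple 2 = 42 ∧
      chevE6.simple 3 = 39 ∧ chevE6.simple 4 = 37 ∧ chevE6.simple 5 = 36 := by decide +kernel
  have hn : auxE6.neg 56 = 15 ∧ auxE6.neg 46 = 25 ∧ auxE6.neg 42 = 29 ∧ auxE6.neg 39 = 32 ∧
      auxE6.neg 37 = 34 ∧ auxE6.neg 36 = 35 := by decide +kernel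
  have hl : (56 < chevE6.nroots ∧ 46 < chevE6.nroots ∧ 42 < chevE6.nroots) ∧ chevE6.rank = 6 := by
    decide +kernel
  obtain ⟨s0, s1, s2, s3, s4, s5⟩ := hs
  obtain ⟨n0, n1, n2, n3, n4, n5⟩ := hn
  obtain ⟨⟨l0, l1, l2⟩, hrk⟩ := hl
  have hpos : ∀ {i r : ℕ}, chevE6.simple i = r → i < 6 → wt chevE6 auxE6 (xiT w ^ n) r = xiT w i ^ n :=
    fun e hi => by rw [← e, wt_simple g _ (by rw [hrk]; exact hi)]; rfl
  have hneg : ∀ {i r s : ℕ}, chevE6.simple i = r → auxE6.neg r = s → i < 6 → r < chevE6.nroots →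
      wt chevE6 auxE6 (xiT w ^ n) s = (xiT w i ^ n)⁻¹ := fun e e' hi hr => by
    rw [← e', wt_neg g _ hr, hpos e hi]
  have hinv : w⁻¹ = w ^ 2 := by
    rw [inv_eq_iff_mul_eq_one, ← pow_succ', h3]
  have hinv2 : (w ^ 2)⁻¹ = w := by rw [← hinv, inv_inv]
  simp only [roots, List.mem_cons, List.not_mem_nil, or_false] at hr
  rcases hr with rfl | rfl | rfl | rfl | rfl | rfl | rfl | rfl | rfl | rfl | rfl | rfl
  · rw [hpos s0 (by omega)]; simp [xiT, rootExp]
  · rw [hpos s1 (by omega)]; simp [xiT, rootExp]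
  · rw [hpos s2 (by omega)]; simp [xiT, rootExp]
  · rw [hpos s3 (by omega)]; simp [xiT, rootExp]
  · rw [hpos s4 (by omega)]; simp [xiT, rootExp]
  · rw [hpos s5 (by omega)]; simp [xiT, rootExp, ← pow_mul, mul_comm]
  · rw [hneg s0 n0 (by omega) l0]
    simp [xiT, rootExp, ← inv_pow, hinv, ← pow_mul, mul_comm]
  · rw [hneg s1 n1 (by omega) l1]; simp [xiT, rootExp]
  · rw [hneg s2 n2 (by omega) l2]; simp [xiT, rootExp]
  · rw [hneg s3 n3 (by omega) (by decide +kernel)]; simp [xiT, rootExp]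
  · rw [hneg s4 n4 (by omega) (by decide +kernel)]; simp [xiT, rootExp]
  · rw [hneg s5 n5 (by omega) (by decide +kernel)]
    simp [xiT, rootExp, ← inv_pow, hinv2]

variable [CharP K 2]

theorem node_twisted {w : K} (hw : w * w = w + 1) (R : Rep K w) {σ : K →+* K} (hσ : ∀ x, σ x = x ^ 2)
    {k : ℕ} (hk : k < 9) : (R.node 0 k : GL chevE6.Idx K) ∈ twistedE6 K 2 := by
  rw [R.node_val hk, lettersOf]
  simp only [Nat.zero_mul, pow_zero, one_mul]
  have hl := (letters_spec hk).1
  generalize genLetters.getD k [] = L at hl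
  induction L with
  | nil => exact one_mem _
  | cons l L ih =>
    rw [List.flatMap_cons, List.map_append, List.prod_append]
    refine mul_mem ?_ (ih fun p hp => hl p (List.mem_cons_of_mem _ hp))
    obtain ⟨h1, h2, h3, h4⟩ := hl l List.mem_cons_self
    obtain ⟨j, c⟩ := l
    simp only at h1 h2 h3 h4
    have ht : σ (tval w c) = tval w (cjCode c) := by
      rw [hσ]
      have t1 : tval w 1 = 1 := by
        simp [tval, bitv, show Nat.testBit 1 1 = false by decide]
      have t2 : tval w 2 = w := by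
        simp [tval, bitv, show Nat.testBit 2 0 = false by decide, show Nat.testBit 2 1 = true by decide]
      have t3 : tval w 3 = 1 + w := by
        simp [tval, bitv, show Nat.testBit 3 0 = true by decide, show Nat.testBit 3 1 = true by decide]
      interval_cases c
      · rw [show cjCode 1 = 1 from rfl, t1, one_pow]
      · rw [show cjCode 2 = 3 from rfl, t2, t3, pow_two, hw, add_comm]
      · rw [show cjCode 3 = 2 from rfl, t2, t3]
        linear_combination hw + CharTwo.add_self_eq_zero w + CharTwo.add_self_eq_zero (1 : K)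
    interval_cases j
    all_goals simp [expand, rootPair, Nat.blt, Nat.ble]
    all_goals first
      | (rw [← ht]; refine E62.word2 hσ ?_ _; decide)
      | (obtain rfl : c = 1 := h4.resolve_left (by omega)
         refine E62.word1 hσ ?_ ?_
         · decide
         · rw [hσ]; simp [tval, bitv, show Nat.testBit 1 1 = false by decide])

set_option maxHeartbeats 800000 in
/-- three classes -/
theorem classes (hK : Fintype.card K = 4) (B : Subgroup Cfsg.Spor.Fi22)
    (hgen : ∀ k, 1 ≤ k → k ≤ 8 → (PresentedGroup.of (ndG k) : Cfsg.Spor.Fi22) ∈ B)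
    (hout : Nat.card (Cfsg.Out ↥B) = 2) :
    ∃ H : Fin 3 → Subgroup (twistedE6 K 2),
      (∀ i, Nonempty ((H i) ≃* ↥B)) ∧
      (∀ i j, i ≠ j → ∀ g : (twistedE6 K 2), (H i).map (MulAut.conj g).toMonoidHom ≠ H j) := by
  classical
  haveI : Fact (Nat.Prime 2) := ⟨Nat.prime_two⟩
  obtain ⟨ω, hw, h3⟩ := exists_w hK
  set σ : K →+* K := frobenius K 2
  have hσ : ∀ x, σ x = x ^ 2 := fun x => frobenius_def 2 x
  obtain ⟨R⟩ := exists_rep hw
  set T : ℕ → GL chevE6.Idx K := fun i => torX chevE6 auxE6 (xiT ω ^ i) with hT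
  have hTmem : ∀ i, ∀ y ∈ twistedE6 K 2, T i * y * (T i)⁻¹ ∈ twistedE6 K 2 := by
    intro i y hy
    refine E62F4.conj_twisted_mem hσ h3 ?_ ?_ ?_ ?_ hy <;> simp [xiT, Pi.pow_apply, ← pow_mul, mul_comm]
  set f : ℕ → Cfsg.Spor.Fi22 →* GL chevE6.Idx K := fun i =>
    (MulAut.conj (T i)).toMonoidHom.comp ((chevE6.group K).subtype.comp (R.f0 hw)) with hf
  have hfmem : ∀ i x, f i x ∈ twistedE6 K 2 := by
    intro i x
    refine hTmem i _ ?_
    have : x ∈ (⊤ : Subgroup Cfsg.Spor.Fi22) := Subgroup.mem_top x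
    rw [← PresentedGroup.closure_range_of] at this
    refine (Subgroup.closure_le (((twistedE6 K 2).comap ((chevE6.group K).subtype.comp (R.f0 hw))))).2 ?_ this
    rintro _ ⟨z, rfl⟩
    show ((R.f0 hw (PresentedGroup.of z) : ↥(chevE6.group K)) : GL chevE6.Idx K) ∈ twistedE6 K 2
    rw [R.f0_of hw]
    exact node_twisted hw R hσ (posG_lt z)
  let fG : ℕ → Cfsg.Spor.Fi22 →* ↥(chevE6.group K) := fun i =>
    (f i).codRestrict _ fun x => twisted_le_group (hfmem i x)
  have hfG : ∀ i x, fG i (PresentedGroup.of x) = R.node i (posG x) := by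
    intro i x
    apply Subtype.ext
    show (MulAut.conj (T i)) ((R.f0 hw (PresentedGroup.of x) : ↥(chevE6.group K)) : GL chevE6.Idx K) = _
    rw [R.f0_of hw, R.node_val (posG_lt x), R.node_val (posG_lt x), map_list_prod, List.map_map]
    refine congrArg List.prod (List.map_congr_left fun p hp => ?_)
    have hr := (letters_spec (posG_lt x)).2 p hp
    simp only [Function.comp, MulAut.conj_apply, Nat.zero_mul, pow_zero, one_mul]
    rw [hT, torX_conj_xG stdE6.good _ (roots_lt hr), wt_xiT ω h3 hr, Units.val_pow_eq_pow_val]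
  set ρ : Cfsg.Spor.Fi22 →* Q27 K := R.χ.comp (R.f0 hw) with hρ
  have hρof : ∀ x, ρ (PresentedGroup.of x) = pr (elemG (ω : K) (posG x)) := fun x => by
    rw [hρ, MonoidHom.comp_apply, R.f0_of hw, R.node_chi_zero hw (posG_lt x)]
  have hfρ : ∀ i x, R.χ (fG i x) = pr (simD hw ^ i) * ρ x * (pr (simD hw ^ i))⁻¹ := by
    intro i x
    have e : R.χ.comp (fG i) = (MulAut.conj (pr (simD hw ^ i))).toMonoidHom.comp ρ :=
      PresentedGroup.ext fun z => by
        show R.χ (fG i (PresentedGroup.of z)) = MulAut.conj (pr (simD hw ^ i)) (ρ (PresentedGroup.of z))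
        rw [hfG, R.node_chi hw (posG_lt z), hρof, MulAut.conj_apply]
    exact DFunLike.congr_fun e x
  have hinj0 : Function.Injective (R.f0 hw) := by
    have hs := CfsgLib.Spor.Fi22.isFi22.1
    rcases hs.eq_bot_or_eq_top_of_normal (R.f0 hw).ker inferInstance with h | h
    · exact (MonoidHom.ker_eq_bot_iff _).1 h
    · exfalso
      have h1 : R.f0 hw (PresentedGroup.of .a) = 1 := MonoidHom.mem_ker.1 (h ▸ Subgroup.mem_top _)
      have h2 : ρ (PresentedGroup.of .a) = 1 := by rw [hρ, MonoidHom.comp_apply, h1, map_one]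
      rw [hρof] at h2
      exact elemG_zero_not_central hw (pr_eq_one.1 h2)
  have hfinj : ∀ i, Function.Injective (f i) := fun i a b h =>
    hinj0 (Subtype.ext ((MulAut.conj (T i)).injective h))
  let F : ℕ → ↥B →* ↥(twistedE6 K 2) := fun i => ((f i).comp B.subtype).codRestrict _ fun x => hfmem i x
  have hFinj : ∀ i, Function.Injective (F i) := fun i a b h =>
    Subtype.ext (hfinj i (congrArg Subtype.val h))
  refine ⟨fun i => (F i.val).range, fun i => ⟨(MonoidHom.ofInjective (hFinj i.val)).symm⟩, ?_⟩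
  intro i j hij g hg
  apply hij
  let e : ↥B ≃* ↥(F j.val).range :=
    (MonoidHom.ofInjective (hFinj i.val)).trans
      ((((MulAut.conj g).subgroupMap (F i.val).range)).trans (MulEquiv.subgroupCongr hg))
  set α : MulAut ↥B := e.trans (MonoidHom.ofInjective (hFinj j.val)).symm with hα
  have hconj : ∀ x : ↥B, F j.val (α x) = g * F i.val x * g⁻¹ := by
    intro x
    have h := congrArg Subtype.val ((MonoidHom.ofInjective (hFinj j.val)).apply_symm_apply (e x))
    exact h
  obtain ⟨y, hy⟩ := R.surj ⟨(g : GL chevE6.Idx K), twisted_le_group g.2⟩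
  set Z : GL ι K := (simD hw ^ j.val)⁻¹ * coverE y * simD hw ^ i.val with hZ
  have hZρ : ∀ x : ↥B, pr Z * ρ x * (pr Z)⁻¹ = ρ (α x) := by
    intro x
    have e1 : fG j.val (α x) = R.θ y * fG i.val x * (R.θ y)⁻¹ := by
      apply Subtype.ext
      have h := congrArg Subtype.val (hconj x)
      rw [hy]
      exact h
    have e2 := congrArg R.χ e1
    rw [map_mul, map_mul, map_inv, R.comp, hfρ, hfρ] at e2
    rw [hZ, map_mul, map_mul, map_inv]
    calc (pr (simD hw ^ j.val))⁻¹ * pr (coverE y) * pr (simD hw ^ i.val) * ρ x *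
          ((pr (simD hw ^ j.val))⁻¹ * pr (coverE y) * pr (simD hw ^ i.val))⁻¹
        = (pr (simD hw ^ j.val))⁻¹ *
          (pr (coverE y) * (pr (simD hw ^ i.val) * ρ x * (pr (simD hw ^ i.val))⁻¹) * (pr (coverE y))⁻¹) *
          pr (simD hw ^ j.val) := by group
      _ = ρ (α x) := by rw [← e2]; group
  obtain ⟨b, hb⟩ : ∃ b : ↥B, MulAut.conj b = α * α := by
    have h := pow_card_eq_one' (G := Cfsg.Out ↥B) (x := (QuotientGroup.mk α : Cfsg.Out ↥B))
    rw [hout, pow_two, ← QuotientGroup.mk_mul, QuotientGroup.eq_one_iff] at h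
    exact MonoidHom.mem_range.1 h
  have hbρ : ∀ x : ↥B, ρ b * ρ x * (ρ b)⁻¹ = pr Z * (pr Z * ρ x * (pr Z)⁻¹) * (pr Z)⁻¹ := by
    intro x
    rw [hZρ, hZρ, ← map_inv, ← map_mul, ← map_mul]
    exact congrArg ρ (congrArg Subtype.val (DFunLike.congr_fun hb x))
  obtain ⟨y', hy'⟩ := R.surj (R.f0 hw b)
  have hρb : ρ b = pr (coverE y') := by rw [hρ, MonoidHom.comp_apply, ← hy', R.comp]
  set W : GL ι K := (coverE y')⁻¹ * (Z * Z) with hW
  have hWc : W ∈ Subgroup.center (GL ι K) := by
    refine central_of_commute hw fun k h1 h8 => ?_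
    refine commute_of_pr hw (by omega) ?_
    have h := hbρ ⟨_, hgen k h1 h8⟩
    rw [hρof, posG_ndG k (by omega), hρb] at h
    rw [hW, map_mul, map_inv, map_mul]
    calc (pr (coverE y'))⁻¹ * (pr Z * pr Z) * pr (elemG (ω : K) k)
        = (pr (coverE y'))⁻¹ * (pr Z * (pr Z * pr (elemG (ω : K) k) * (pr Z)⁻¹) * (pr Z)⁻¹) *
          (pr Z * pr Z) := by group
      _ = _ := by rw [← h]; group
  obtain ⟨d, hd⟩ : ∃ d : K, (W : Matrix ι ι K) = d • 1 :=
    scalar_of_commute hw fun k _ _ => by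
      rw [← Units.val_mul, ← Subgroup.mem_center_iff.1 hWc, Units.val_mul]
  have hd0 : d ≠ 0 := fun h => by
    rw [h, zero_smul] at hd
    have := congrArg (fun M : Matrix ι ι K => M * (↑W⁻¹ : Matrix ι ι K)) hd
    simp at this
  have hd3 : d ^ 3 = 1 := congrArg Units.val (h3 (Units.mk0 d hd0))
  have hWS : SimF W 1 := fun v => by
    show TL mon ((W : Matrix ι ι K) *ᵥ v) = _
    rw [hd, Matrix.smul_mulVec, Matrix.one_mulVec, TL_smul, hd3]
  have hcov : ∀ z, SimF (coverE z : GL ι K) 1 := fun z v => by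
    rw [one_mul]
    exact isom_of_mem (EG_isom (range_coverE (F := K) ▸ ⟨z, rfl⟩)) v
  have hDS := fun n => (simD_factor hw).pow n
  have hinvS : ∀ n, SimF ((simD hw ^ n)⁻¹ : GL ι K) (((ω : K) ^ 2) ^ (2 * n)) := fun n => by
    have e : (simD hw ^ n)⁻¹ = simD hw ^ (2 * n) := by
      refine inv_eq_of_mul_eq_one_right ?_
      rw [← pow_add, show n + 2 * n = 3 * n by omega, pow_mul]
      suffices h : simD hw ^ 3 = 1 by rw [h, one_pow]
      refine gl_ext fun v => funext fun a => ?_
      rw [pow_succ, pow_two, ap_mul, ap_mul, simD_apply, simD_apply, simD_apply, ap_one, ← mul_assoc,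
        ← mul_assoc, ← pow_add, ← pow_add, show expAt a + expAt a + expAt a = 3 * expAt a by omega,
        pow_mul, cube_w hw, one_pow, one_mul]
    rw [e]
    exact hDS _
  have hZS : SimF Z (((ω : K) ^ 2) ^ (2 * j.val) * 1 * ((ω : K) ^ 2) ^ i.val) :=
    ((hinvS j.val).mul (hcov y)).mul (hDS i.val)
  have hkey : Z * Z = coverE y' * W := by rw [hW]; group
  have h1 := hZS.mul hZS
  rw [hkey] at h1
  have huni := SimF.unique h1 ((hcov y').mul hWS)
  rw [mul_one, mul_one, ← pow_add, ← pow_add, ← pow_mul, pow_w_mod hw] at huni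
  have hne : (ω : K) ^ 2 ≠ 1 := fun h => w_ne_one hw (by
    have := congrArg (· * (ω : K)) h
    simp only [← pow_succ, cube_w hw, one_mul] at this
    exact this.symm)
  apply Fin.ext
  have hi := i.isLt
  have hj := j.isLt
  by_contra hne'
  have hmod : 2 * (2 * j.val + i.val + (2 * j.val + i.val)) % 3 = 1 ∨
      2 * (2 * j.val + i.val + (2 * j.val + i.val)) % 3 = 2 := by omega
  rcases hmod with e | e <;> rw [e] at huni
  · exact w_ne_one hw (by simpa using huni)
  · exact hne huni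

/-- isomorphic groups have equally many outer classes -/
theorem natCard_out_congr {E E' : Type*} [Group E] [Group E'] (e : E ≃* E') :
    Nat.card (Cfsg.Out E) = Nat.card (Cfsg.Out E') :=
  Nat.card_congr (QuotientGroup.congr (Cfsg.Inn E) (Cfsg.Inn E') (MulAut.congr e) (by
    ext φ
    constructor
    · rintro ⟨_, ⟨a, rfl⟩, rfl⟩
      exact ⟨e a, MulEquiv.ext fun x => by simp⟩
    · rintro ⟨a, rfl⟩
      exact ⟨MulAut.conj (e.symm a), ⟨_, rfl⟩, MulEquiv.ext fun x => by simp⟩)).toEquiv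

end CfsgLib.Chev.E62Fi22
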