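import Cfsg.Agent.Lib.Chev.E62Fi22.Data
import Cfsg.Agent.Lib.Chev.E62Fi22.Bridge
import Cfsg.Agent.Lib.KnownB.Fi22Mult.Words

/-!
The nine involutions of the certificate in bit-plane form, and the checks of their relations.
-/

set_option autoImplicit false
set_option maxRecDepth 100000

namespace CfsgLib.Chev.E62Fi22

open CfsgLib.Chev.E6Form
open CfsgLib.KnownB.Fi22Mult (repW spiderW sevenA sevenB edgeB)
open CfsgLib.KnownB.Fi22Mult.Rep (Vc vx wm sh sel app eqL)

/-- mask of a root and a source -/
def maskAt (r k : ℕ) : ℕ := ((List.lookup r masks).getD []).getD k 0

/-- the columns of a root element, the parameter as two bits -/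
def colsX (p : ℕ × ℕ) : List Vc :=
  (List.range 27).map fun k =>
    (1 <<< k ^^^ (bif p.2.testBit 0 then maskAt p.1 k else 0), bif p.2.testBit 1 then maskAt p.1 k else 0)

/-- the conjugate parameter -/
def cjCode (c : ℕ) : ℕ := [0, 1, 3, 2].getD c 0

/-- the root elements of a twisted generator -/
def expand (l : ℕ × ℕ) : List (ℕ × ℕ) :=
  bif Nat.blt l.1 4 then [((rootPair.getD l.1 (0, 0)).1, l.2)]
  else [((rootPair.getD l.1 (0, 0)).1, l.2), ((rootPair.getD l.1 (0, 0)).2, cjCode l.2)]

/-- the root elements of the word of a node -/
def lettersOf (k : ℕ) : List (ℕ × ℕ) := (genLetters.getD k []).flatMap expand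

/-- the columns of the product of a list of root elements -/
def colsL : List (ℕ × ℕ) → List Vc
  | [] => scRows id
  | p :: L => (colsL L).map (app (colsX p) 0)

/-- the columns of a node -/
def colsG (k : ℕ) : List Vc := genCols.getD k (scRows id)

/-- the columns of a product of nodes -/
def prodG : List ℕ → List Vc
  | [] => scRows id
  | i :: w => (prodG w).map (app (colsG i) 0)

/-- the two words have one value -/
def sameG (u v : List ℕ) : Bool := eqL (prodG u) (prodG v)

/-- the masks agree with the table of root elements -/
noncomputable def maskOK : Bool :=
  roots.all fun r => ((entN r).all fun e => decide (e.2.2 % 2 = 1)) &&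
    (List.range 27).all fun i => (List.range 27).all fun k =>
      (maskAt r k).testBit i == decide (((intoN r i).filter fun e => Nat.beq e.1 k).length % 2 = 1)

/-- the letters use the twelve roots and nonzero parameters -/
def lettersOK : Bool :=
  (List.range 9).all fun k => ((genLetters.getD k []).all fun l =>
      Nat.blt l.1 8 && Nat.blt 0 l.2 && Nat.blt l.2 4 && (Nat.ble 4 l.1 || Nat.beq l.2 1)) &&
    ((lettersOf k).all fun p => decide (p.1 ∈ roots))

/-- the columns of the nodes are those of their words -/
def genColsOK : Bool := (List.range 9).all fun k => eqL (colsL (lettersOf k)) (colsG k)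

/-- the Coxeter relations -/
def coxeterOK : Bool :=
  (List.range 9).all fun i => sameG [i, i] [] && ((List.range 9).all fun j =>
    bif edgeB i j then sameG [i, j, i] [j, i, j] else sameG [i, j] [j, i])

/-- the diagonal exponents shift the root elements -/
noncomputable def diagOK : Bool :=
  roots.all fun r => (entN r).all fun e =>
    decide (diagExp.getD e.2.1 0 % 3 = (diagExp.getD e.1 0 + rootExp r) % 3)

/-- the form is multiplied by the second power -/
def formOK : Bool :=
  monN.all fun m => decide ((diagExp.getD m.1 0 + diagExp.getD m.2.1 0 + diagExp.getD m.2.2.1 0) % 3 = 2)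

/-- the combination with one-dimensional kernel -/
def kerCols : List Vc :=
  kerWords.foldr (fun u A => List.zipWith vx (prodG u) A) ((List.range 27).map fun _ => (0, 0))

/-- the images of the kernel vector -/
def spinCols : List Vc := spinWords.map fun u => app (prodG u) 0 kerVec

/-- the outer product of the kernel vector and the functional -/
def outerCols : List Vc :=
  (List.range 27).map fun k =>
    vx (sel (kerFun.1.testBit k) kerVec) (sel (kerFun.2.testBit k) (wm kerVec))

/-- the certificate of a one-dimensional centraliser -/
def schurOK : Bool :=
  eqL (List.zipWith vx (kerCols.map (app leftInv 0)) (scRows id)) outerCols &&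
    Nat.beq (app kerCols 0 kerVec).1 0 && Nat.beq (app kerCols 0 kerVec).2 0 &&
    eqL (spinInv.map (app spinCols 0)) (scRows id) &&
    Nat.beq spinWords.length 27 && Nat.beq spinInv.length 27 && Nat.beq leftInv.length 27 &&
    ((kerWords ++ spinWords).all fun u => u.all fun i => Nat.ble 1 i && Nat.ble i 8)

theorem maskOK_true : maskOK = true := by decide +kernel

theorem lettersOK_true : lettersOK = true := by decide +kernel

theorem genColsOK_true : genColsOK = true := by decide +kernel

theorem coxeterOK_true : coxeterOK = true := by decide +kernel

theorem diagOK_true : diagOK = true := by decide +kernel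

theorem formOK_true : formOK = true := by decide +kernel

theorem schurOK_true : schurOK = true := by decide +kernel

theorem sevenA_G : eqL (prodG (repW 9 sevenA)) (scRows id) = true := by decide +kernel

theorem sevenB_G : eqL (prodG (repW 9 sevenB)) (scRows id) = true := by decide +kernel

theorem spider_G : eqL (prodG (repW 10 spiderW)) ((scRows id).map wm) = true := by decide +kernel

theorem genCols_len : ((List.range 9).all fun k => Nat.beq (colsG k).length 27) = true := by decide +kernel

theorem node0_moves : ((colsG 0).getD 0 (0, 0)).1.testBit 1 = false ∧
    ((colsG 0).getD 0 (0, 0)).2.testBit 1 = true := by decide +kernel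

end CfsgLib.Chev.E62Fi22
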