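import Cfsg.Agent.Lib.Chev.E62Fi22.Sim
import Cfsg.Agent.Lib.Chev.E6Form.Main
import Cfsg.Agent.Lib.Chev.E62F4.Main
import Cfsg.Agent.Lib.KnownB.Fi22Mult.Pres

/-!
The presented group `Fi₂₂` mapped into the adjoint group of type E6 over four elements, read in the
27-dimensional representation modulo scalars.
-/

set_option autoImplicit false
set_option maxRecDepth 100000
set_option linter.unusedSectionVars false

namespace CfsgLib.Chev.E62Fi22

open Cfsg.Lie Matrix CfsgLib.Chev CfsgLib.Chev.E6Form
open CfsgLib.KnownB.Fi22Mult (posG ndG posG_lt label_cases edgeB extra_eq spiderW sevenA sevenB repW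
  posG_ndG)
open CfsgLib.KnownB.Fi22Mult.Rep (eqL_sound)

variable {K : Type*} [Field K] [CharP K 2]

/-- general linear maps of the 27 coordinates modulo scalars -/
abbrev Q27 (K : Type*) [Field K] : Type _ := GL ι K ⧸ Subgroup.center (GL ι K)

/-- the projection -/
def pr : GL ι K →* Q27 K := QuotientGroup.mk' _

theorem central_of_scalar {Z : GL ι K} {d : K} (h : (Z : Matrix ι ι K) = d • 1) :
    Z ∈ Subgroup.center (GL ι K) := by
  rw [Subgroup.mem_center_iff]
  intro g
  apply Units.ext
  rw [Units.val_mul, Units.val_mul, h, Matrix.mul_smul, Matrix.smul_mul, mul_one, one_mul]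

theorem pr_eq_one {Z : GL ι K} : pr Z = 1 ↔ Z ∈ Subgroup.center (GL ι K) :=
  QuotientGroup.eq_one_iff Z

/-- the roots of the letters are roots -/
theorem roots_lt {r : ℕ} (hr : r ∈ roots) : r < 72 := by
  revert r
  decide +kernel

/-- the cover's word of a node, shifted by a power of the torus element -/
noncomputable def wordY (w : K) (i k : ℕ) : chevE6.SteinbergCover K :=
  ((lettersOf k).map fun p => chevE6.scGen K p.1 (w ^ (i * rootExp p.1) * tval w p.2)).prod

variable {w : K}

theorem coverE_wordY (hw : w * w = w + 1) {k : ℕ} (hk : k < 9) (i : ℕ) :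
    coverE (wordY w i k) = simD hw ^ i * elemG w k * (simD hw ^ i)⁻¹ := by
  rw [wordY, map_list_prod, List.map_map]
  show _ = (MulAut.conj (simD hw ^ i)) (elemG w k)
  rw [elemG, elemL, map_list_prod, List.map_map]
  refine congrArg List.prod (List.map_congr_left fun p hp => ?_)
  have hr := (letters_spec hk).2 p hp
  simp only [Function.comp, MulAut.conj_apply]
  rw [simD_pow_xE hw hr]
  exact lift_stX (roots_lt hr) _

theorem coverE_wordY_zero {k : ℕ} (hk : k < 9) (hw : w * w = w + 1) :
    coverE (wordY w 0 k) = elemG w k := by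
  rw [coverE_wordY hw hk 0]
  simp

theorem central_of_commute (hw : w * w = w + 1) {Z : GL ι K}
    (hZ : ∀ k, 1 ≤ k → k ≤ 8 → Z * elemG w k = elemG w k * Z) : Z ∈ Subgroup.center (GL ι K) := by
  obtain ⟨d, hd⟩ := scalar_of_commute hw (Z := (Z : Matrix ι ι K)) fun k h1 h8 => by
    rw [← Units.val_mul, hZ k h1 h8, Units.val_mul]
  exact central_of_scalar hd

theorem elemG_sq (hw : w * w = w + 1) {k : ℕ} (hk : k < 9) : elemG w k * elemG w k = 1 := by
  have h := List.all_eq_true.1 coxeterOK_true k (List.mem_range.2 hk)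
  rw [Bool.and_eq_true] at h
  have := elemP_eq hw (u := [k, k]) (v := []) (by simp [hk]) (by simp) h.1
  simpa [elemP] using this

/-- commuting modulo scalars with an involution is commuting -/
theorem commute_of_pr (hw : w * w = w + 1) {Z : GL ι K} {k : ℕ}
    (hk : k < 9) (h : pr Z * pr (elemG w k) = pr (elemG w k) * pr Z) :
    Z * elemG w k = elemG w k * Z := by
  rw [← map_mul, ← map_mul] at h
  have hc : (elemG w k * Z)⁻¹ * (Z * elemG w k) ∈ Subgroup.center (GL ι K) := by
    rw [← pr_eq_one, map_mul, map_inv, h, inv_mul_cancel]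
  generalize hcdef : (elemG w k * Z)⁻¹ * (Z * elemG w k) = c at hc
  have hzc : Z * elemG w k = elemG w k * Z * c := by rw [← hcdef]; group
  have hcc := Subgroup.mem_center_iff.1 hc
  have hg := elemG_sq hw hk
  have hsq : c * c = 1 := by
    have e : Z = Z * (c * c) := by
      calc Z = Z * elemG w k * elemG w k := by rw [mul_assoc, hg, mul_one]
        _ = elemG w k * Z * c * elemG w k := by rw [hzc]
        _ = elemG w k * (Z * elemG w k) * c := by rw [mul_assoc (elemG w k * Z), ← hcc]; group
        _ = Z * (c * c) := by rw [hzc, ← mul_assoc, ← mul_assoc, hg, one_mul, mul_assoc]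
    exact mul_left_cancel (e.symm.trans (mul_one Z).symm)
  obtain ⟨d, hd⟩ : ∃ d : K, (c : Matrix ι ι K) = d • 1 :=
    scalar_of_commute hw fun j _ _ => by rw [← Units.val_mul, ← hcc, Units.val_mul]
  have hd2 : d * d = 1 := by
    have e := congrArg (fun g : GL ι K => (g : Matrix ι ι K) (cd 0) (cd 0)) hsq
    simpa [hd, Matrix.smul_mul, Matrix.mul_smul, smul_smul] using e
  have hd1 : d = 1 := by
    rcases mul_self_eq_one_iff.1 hd2 with h | h
    · exact h
    · rw [h, CharTwo.neg_eq]
  have : c = 1 := Units.ext (by rw [hd, hd1, one_smul, Units.val_one])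
  rw [hzc, this, mul_one]

theorem elemG_zero_not_central (hw : w * w = w + 1) :
    elemG w 0 ∉ Subgroup.center (GL ι K) := fun h => by
  obtain ⟨d, hd⟩ : ∃ d : K, (elemG w 0 : Matrix ι ι K) = d • 1 :=
    scalar_of_commute hw fun j _ _ => by rw [← Units.val_mul, ← Subgroup.mem_center_iff.1 h, Units.val_mul]
  have e := congrFun (congrFun hd (cd 1)) (cd 0)
  rw [elemG_val hw (by norm_num)] at e
  have h01 : cd 1 ≠ cd 0 := fun e => by simpa using cd_inj (by norm_num) (by norm_num) e
  simp only [Matrix.smul_apply, Matrix.one_apply_ne h01, smul_zero] at e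
  have hne : dec w ((colsG 0).getD (pos (cd 0)) (0, 0)) (pos (cd 1)) = 0 := e
  rw [pos_cd (by norm_num), pos_cd (by norm_num), dec, node0_moves.1, node0_moves.2] at hne
  simp [bitv] at hne
  rw [hne, mul_zero, zero_add] at hw
  exact zero_ne_one hw

/-! ### the projective representation of the adjoint group -/

variable [Fintype K]

theorem coverE_central (hw : w * w = w + 1) {y : chevE6.SteinbergCover K}
    (hy : y ∈ Subgroup.center (chevE6.SteinbergCover K)) : coverE y ∈ Subgroup.center (GL ι K) :=
  central_of_commute hw fun k _ h8 => by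
    rw [← coverE_wordY_zero (show k < 9 by omega) hw, ← map_mul, ← map_mul,
      Subgroup.mem_center_iff.1 hy]

/-- the data of the representation -/
structure Rep (K : Type*) [Field K] (w : K) where
  θ : chevE6.SteinbergCover K →* ↥(chevE6.group K)
  surj : Function.Surjective θ
  gen : ∀ r t, r < chevE6.nroots →
    ((θ (chevE6.scGen K r t) : GL chevE6.Idx K) : Matrix chevE6.Idx chevE6.Idx K) = chevE6.x K r t
  χ : ↥(chevE6.group K) →* Q27 K
  inj : Function.Injective χ
  comp : ∀ y, χ (θ y) = pr (coverE y)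

theorem exists_rep (hw : w * w = w + 1) : Nonempty (Rep K w) := by
  obtain ⟨θ, hθ, hθk, hθg⟩ := Cfsg.Agent.S2396.result (K := K) chevE6 (by simp)
    (by simp [chevE6, chevB2, chevG2])
  have hsimple := (Cfsg.Agent.S1054.result (F := K) chevE6 (by simp)).1
  let φ : chevE6.SteinbergCover K →* Q27 K := pr.comp coverE
  have hker : θ.ker ≤ φ.ker := fun z hz =>
    MonoidHom.mem_ker.2 (pr_eq_one.2 (coverE_central hw (hθk hz)))
  let χ := θ.liftOfSurjective hθ ⟨φ, hker⟩
  have hχ : ∀ y, χ (θ y) = φ y := fun y => MonoidHom.liftOfRightInverse_comp_apply _ _ _ ⟨φ, hker⟩ y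
  refine ⟨⟨θ, hθ, hθg, χ, ?_, hχ⟩⟩
  rcases hsimple.eq_bot_or_eq_top_of_normal χ.ker inferInstance with hk | hk
  · exact (MonoidHom.ker_eq_bot_iff _).1 hk
  · exfalso
    have h : χ (θ (wordY w 0 0)) = 1 := MonoidHom.mem_ker.1 (hk ▸ Subgroup.mem_top _)
    rw [hχ] at h
    refine elemG_zero_not_central hw ?_
    rw [← coverE_wordY_zero (by norm_num) hw]
    exact pr_eq_one.1 h

/-- the image of a node -/
noncomputable def Rep.node (R : Rep K w) (i k : ℕ) : ↥(chevE6.group K) := R.θ (wordY w i k)

theorem Rep.node_val (R : Rep K w) {k : ℕ} (hk : k < 9) (i : ℕ) :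
    (R.node i k : GL chevE6.Idx K) =
      ((lettersOf k).map fun p => xG stdE6.good p.1 (w ^ (i * rootExp p.1) * tval w p.2)).prod := by
  rw [Rep.node, wordY, map_list_prod, SubmonoidClass.coe_list_prod, List.map_map, List.map_map]
  refine congrArg List.prod (List.map_congr_left fun p hp => ?_)
  exact (eq_xG_iff stdE6.good).1 (R.gen _ _ (roots_lt ((letters_spec hk).2 p hp)))

theorem Rep.node_chi (R : Rep K w) (hw : w * w = w + 1) {k : ℕ} (hk : k < 9) (i : ℕ) :
    R.χ (R.node i k) = pr (simD hw ^ i) * pr (elemG w k) * (pr (simD hw ^ i))⁻¹ := by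
  rw [Rep.node, R.comp, coverE_wordY hw hk, map_mul, map_mul, map_inv]

theorem Rep.node_chi_zero (R : Rep K w) (hw : w * w = w + 1) {k : ℕ} (hk : k < 9) :
    R.χ (R.node 0 k) = pr (elemG w k) := by
  rw [R.node_chi hw hk 0]
  simp

theorem lift_word {Q : Type*} [Group Q] (f : Cfsg.Spor.Fi22.Gen → Q) (g : ℕ → Q)
    (hfg : ∀ i < 9, f (ndG i) = g i) {u : List ℕ} (hu : ∀ i ∈ u, i < 9) :
    FreeGroup.lift f ((u.map fun i => FreeGroup.of (ndG i)).prod) = (u.map g).prod := by
  rw [map_list_prod, List.map_map]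
  refine congrArg List.prod (List.map_congr_left fun i hi => ?_)
  simp only [Function.comp, FreeGroup.lift_apply_of]
  exact hfg i (hu i hi)

theorem pr_elemP (u : List ℕ) : (u.map fun i => pr (elemG w i)).prod = pr (elemP w u) := by
  rw [elemP, map_list_prod, List.map_map]
  rfl

theorem braid_cube {G : Type*} [Group G] {a b : G} (ha : a * a = 1) (hb : b * b = 1)
    (h : a * b * a = b * a * b) : (a * b) ^ 3 = 1 := by
  calc (a * b) ^ 3 = (a * b * a) * (b * a * b) := by simp only [pow_succ, pow_zero, one_mul, mul_assoc]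
    _ = (b * a * b) * (b * a * b) := by rw [h]
    _ = b * (a * (b * b) * a) * b := by simp only [mul_assoc]
    _ = 1 := by rw [hb, mul_one, ha, mul_one, hb]

theorem comm_square {G : Type*} [Group G] {a b : G} (ha : a * a = 1) (hb : b * b = 1)
    (h : a * b = b * a) : (a * b) ^ 2 = 1 := by
  calc (a * b) ^ 2 = a * b * (b * a) := by rw [pow_two]; nth_rewrite 2 [h]; rfl
    _ = a * (b * b) * a := by simp only [mul_assoc]
    _ = 1 := by rw [hb, mul_one, ha]

theorem Rep.rels (R : Rep K w) (hw : w * w = w + 1) :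
    ∀ r ∈ Cfsg.Spor.coxRelators Cfsg.Spor.Fi22.edges ∪ {r | r ∈ Cfsg.Spor.Fi22.extra},
      FreeGroup.lift (fun x => R.node 0 (posG x)) r = 1 := by
  intro r hr
  apply R.inj
  rw [map_one]
  have hcomp : R.χ (FreeGroup.lift (fun x => R.node 0 (posG x)) r) =
      FreeGroup.lift (fun x => pr (elemG w (posG x))) r := by
    rw [← MonoidHom.comp_apply]
    refine DFunLike.congr_fun (FreeGroup.ext_hom _ _ fun x => ?_) r
    simp [R.node_chi_zero hw (posG_lt x)]
  rw [hcomp]
  have hcox := fun i (hi : i < 9) => List.all_eq_true.1 coxeterOK_true i (List.mem_range.2 hi)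
  rcases hr with hr | hr
  · obtain ⟨x, -, y, -, rfl⟩ := hr
    rw [map_pow, map_mul, FreeGroup.lift_apply_of, FreeGroup.lift_apply_of, ← map_mul, ← map_pow, pr_eq_one]
    have hx := elemG_sq hw (posG_lt x)
    have hy := elemG_sq hw (posG_lt y)
    have hb := hcox _ (posG_lt x)
    rw [Bool.and_eq_true] at hb
    have hb2 := List.all_eq_true.1 hb.2 (posG y) (List.mem_range.2 (posG_lt y))
    suffices h : (elemG w (posG x) * elemG w (posG y)) ^ Cfsg.Spor.coxLabel Cfsg.Spor.Fi22.edges x y = 1 by
      rw [h]; exact one_mem _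
    rcases label_cases x y with ⟨e, hl⟩ | ⟨he, hl⟩ | ⟨he, -, hl⟩
    · subst e
      rw [hl, pow_one, hx]
    · rw [he, cond_true] at hb2
      have h := elemP_eq hw (u := [posG x, posG y, posG x]) (v := [posG y, posG x, posG y])
        (by simp [posG_lt]) (by simp [posG_lt]) hb2
      simp only [elemP, List.map_cons, List.map_nil, List.prod_cons, List.prod_nil, mul_one, ← mul_assoc] at h
      rw [hl]
      exact braid_cube hx hy h
    · rw [he, cond_false] at hb2
      have h := elemP_eq hw (u := [posG x, posG y]) (v := [posG y, posG x])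
        (by simp [posG_lt]) (by simp [posG_lt]) hb2
      simp only [elemP, List.map_cons, List.map_nil, List.prod_cons, List.prod_nil, mul_one] at h
      rw [hl]
      exact comm_square hx hy h
  · have hrep : ∀ (n : ℕ) (u : List ℕ), (∀ i ∈ u, i < 9) →
        FreeGroup.lift (fun x => pr (elemG w (posG x))) ((u.map fun i => FreeGroup.of (ndG i)).prod ^ n) =
          pr (elemP w (repW n u)) := by
      intro n u hu
      rw [map_pow, lift_word _ (fun i => pr (elemG w i)) (fun i hi => by rw [posG_ndG i hi]) hu, pr_elemP,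
        ← map_pow]
      congr 1
      induction n with
      | zero => rfl
      | succ n ih => rw [pow_succ, ih, repW, elemP, elemP, elemP, List.map_append, List.prod_append]
    have hb : ∀ (n : ℕ) (u : List ℕ), (∀ i ∈ u, i < 9) → ∀ i ∈ repW n u, i < 9 := by
      intro n u hu
      induction n with
      | zero => simp [repW]
      | succ n ih =>
        intro i hi
        rcases List.mem_append.1 hi with h | h
        · exact ih i h
        · exact hu i h
    rw [extra_eq, Set.mem_setOf_eq] at hr
    simp only [List.mem_cons, List.not_mem_nil, or_false] at hr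
    have hlt : (∀ i ∈ spiderW, i < 9) ∧ (∀ i ∈ sevenA, i < 9) ∧ ∀ i ∈ sevenB, i < 9 := by decide
    rcases hr with rfl | rfl | rfl
    · rw [hrep 10 spiderW hlt.1, pr_eq_one]
      refine central_of_scalar (d := w) ?_
      rw [elemP_val hw _ (hb 10 _ hlt.1), eqL_sound spider_G, matOf_wm hw (len_scRows id), matOf_id]
    · rw [hrep 9 sevenA hlt.2.1, pr_eq_one]
      refine central_of_scalar (d := 1) ?_
      rw [elemP_val hw _ (hb 9 _ hlt.2.1), eqL_sound sevenA_G, matOf_id, one_smul]
    · rw [hrep 9 sevenB hlt.2.2, pr_eq_one]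
      refine central_of_scalar (d := 1) ?_
      rw [elemP_val hw _ (hb 9 _ hlt.2.2), eqL_sound sevenB_G, matOf_id, one_smul]

/-- the map from the presented group -/
noncomputable def Rep.f0 (R : Rep K w) (hw : w * w = w + 1) : Cfsg.Spor.Fi22 →* ↥(chevE6.group K) :=
  PresentedGroup.toGroup (f := fun x => R.node 0 (posG x)) (R.rels hw)

theorem Rep.f0_of (R : Rep K w) (hw : w * w = w + 1) (x : Cfsg.Spor.Fi22.Gen) :
    R.f0 hw (PresentedGroup.of x) = R.node 0 (posG x) :=
  PresentedGroup.toGroup.of _

end CfsgLib.Chev.E62Fi22
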