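import Cfsg.Agent.Lib.Chev.E62Fi22.Cols

/-!
The nine involutions as matrices preserving the cubic form: relations, the diagonal similitude, and
the triviality of their centraliser up to scalars.
-/

set_option autoImplicit false
set_option maxRecDepth 100000
set_option linter.unusedSectionVars false

namespace CfsgLib.Chev.E62Fi22

open Matrix CfsgLib.Chev.E6Form
open CfsgLib.KnownB.Fi22Mult.Rep (Vc vx wm sh sel app eqL eqL_sound)

variable {K : Type*} [Field K] [CharP K 2] {w : K}

/-- the value of a parameter -/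
def tval (w : K) (c : ℕ) : K := bitv (c.testBit 0) + bitv (c.testBit 1) * w

theorem len_scRows (f : Vc → Vc) : (scRows f).length = 27 := by simp [scRows]

theorem len_colsX (p : ℕ × ℕ) : (colsX p).length = 27 := by simp [colsX]

theorem len_colsL : ∀ L : List (ℕ × ℕ), (colsL L).length = 27
  | [] => len_scRows id
  | p :: L => by rw [colsL, List.length_map, len_colsL L]

theorem len_colsG (k : ℕ) : (colsG k).length = 27 := by
  rcases lt_or_ge k 9 with h | h
  · exact Nat.eq_of_beq_eq_true (List.all_eq_true.1 genCols_len k (List.mem_range.2 h))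
  · rw [colsG, List.getD_eq_getElem?_getD, List.getElem?_eq_none (by simpa [genCols] using h)]
    exact len_scRows id

theorem len_prodG : ∀ u : List ℕ, (prodG u).length = 27
  | [] => len_scRows id
  | i :: u => by rw [prodG, List.length_map, len_prodG u]

theorem odd_cast {c : ℤ} (h : c % 2 = 1) : (c : K) = 1 := by
  rw [show c = 2 * (c / 2) + 1 by omega, Int.cast_add, Int.cast_mul]
  simp [CharTwo.two_eq_zero]

theorem sum_ite_count {α : Type*} (q : α → Bool) : ∀ L : List α,
    (L.map fun a => (bitv (q a) : K)).sum = bitv (decide ((L.filter q).length % 2 = 1))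
  | [] => by simp [bitv]
  | a :: L => by
    rw [List.map_cons, List.sum_cons, sum_ite_count q L, ← bitv_xor]
    congr 1
    cases h : q a <;> rcases Nat.mod_two_eq_zero_or_one (L.filter q).length with e | e <;>
      simp [h, e, Nat.add_mod]

theorem matOf_colsX {r : ℕ} (hr : r ∈ roots) (c : ℕ) :
    matOf w (colsX (r, c)) = xM r (tval w c) := by
  ext i k
  have hm := List.all_eq_true.1 maskOK_true r hr
  rw [Bool.and_eq_true] at hm
  have hbit := List.all_eq_true.1 (List.all_eq_true.1 hm.2 (pos i) (List.mem_range.2 (pos_lt i)))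
    (pos k) (List.mem_range.2 (pos_lt k))
  rw [beq_iff_eq] at hbit
  have hx : xM r (tval w c) i k = (xM r (tval w c) *ᵥ bs K k) i := by simp [Matrix.mulVec_single]
  rw [hx, xM_apply, dd, ← cd_pos i, into_cd r (pos_lt i), List.map_map, cd_pos i,
    List.map_congr_left (g := fun e => (bitv (Nat.beq e.1 (pos k)) : K)) (fun e he => ?_),
    sum_ite_count, ← hbit]
  · show dec w ((colsX (r, c)).getD (pos k) (0, 0)) (pos i) = _
    rw [colsX, List.getD_eq_getElem?_getD, List.getElem?_map, List.getElem?_range (pos_lt k)]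
    have hb : (Pi.single k (1 : K) : ι → K) i = bitv (decide (pos k = pos i)) := by
      by_cases h : i = k
      · subst h; simp [bitv]
      · rw [Pi.single_eq_of_ne h, decide_eq_false fun e => h (pos_inj e).symm]
        rfl
    simp only [Option.map_some, Option.getD_some, dec, tval, hb, Nat.testBit_xor, bitv_xor,
      Nat.one_shiftLeft, Nat.testBit_two_pow]
    cases c.testBit 0 <;> cases c.testBit 1 <;> simp [bitv] <;> ring
  · obtain ⟨he1, he2⟩ := List.mem_filter.1 he
    have hodd : (e.2.2 : K) = 1 :=
      odd_cast (of_decide_eq_true (List.all_eq_true.1 hm.1 e he1))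
    simp only [Function.comp, hodd, one_mul]
    show (Pi.single k (1 : K) : ι → K) (cd e.1) = _
    by_cases h : cd e.1 = k
    · subst h
      rw [Pi.single_eq_same, pos_cd (ent_facts he1).1, Nat.beq_refl]
      rfl
    · rw [Pi.single_eq_of_ne h, show Nat.beq e.1 (pos k) = false from Bool.eq_false_iff.2 fun hb => h
        (by rw [Nat.eq_of_beq_eq_true hb, cd_pos])]
      rfl

variable (w)

/-- the product of a list of root elements -/
noncomputable def elemL (L : List (ℕ × ℕ)) : GL ι K := (L.map fun p => xE p.1 (tval w p.2)).prod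

/-- the involution of a node -/
noncomputable def elemG (k : ℕ) : GL ι K := elemL w (lettersOf k)

/-- the value of a word in the nodes -/
noncomputable def elemP (u : List ℕ) : GL ι K := (u.map (elemG w)).prod

variable {w}

theorem elemL_val (hw : w * w = w + 1) : ∀ L : List (ℕ × ℕ), (∀ p ∈ L, p.1 ∈ roots) →
    ((elemL w L : GL ι K) : Matrix ι ι K) = matOf w (colsL L)
  | [], _ => by rw [colsL, matOf_id]; rfl
  | p :: L, h => by
    rw [colsL, matOf_map_app hw (len_colsL L) (len_colsX p), matOf_colsX (h p List.mem_cons_self),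
      ← elemL_val hw L fun q hq => h q (List.mem_cons_of_mem _ hq)]
    rfl

theorem letters_spec {k : ℕ} (hk : k < 9) :
    (∀ l ∈ genLetters.getD k [], l.1 < 8 ∧ 0 < l.2 ∧ l.2 < 4 ∧ (4 ≤ l.1 ∨ l.2 = 1)) ∧
      ∀ p ∈ lettersOf k, p.1 ∈ roots := by
  have h := List.all_eq_true.1 lettersOK_true k (List.mem_range.2 hk)
  simp only [Bool.and_eq_true, List.all_eq_true, Bool.or_eq_true, Nat.blt_eq, decide_eq_true_eq] at h
  refine ⟨fun l hl => ?_, h.2⟩
  obtain ⟨⟨⟨h1, h2⟩, h3⟩, h4⟩ := h.1 l hl
  exact ⟨h1, h2, h3, h4.imp Nat.le_of_ble_eq_true Nat.eq_of_beq_eq_true⟩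

theorem elemG_val (hw : w * w = w + 1) {k : ℕ} (hk : k < 9) :
    ((elemG w k : GL ι K) : Matrix ι ι K) = matOf w (colsG k) := by
  rw [elemG, elemL_val hw _ (letters_spec hk).2,
    eqL_sound (List.all_eq_true.1 genColsOK_true k (List.mem_range.2 hk))]

theorem elemP_val (hw : w * w = w + 1) : ∀ u : List ℕ, (∀ i ∈ u, i < 9) →
    ((elemP w u : GL ι K) : Matrix ι ι K) = matOf w (prodG u)
  | [], _ => by rw [prodG, matOf_id]; rfl
  | i :: u, h => by
    rw [prodG, matOf_map_app hw (len_prodG u) (len_colsG i), ← elemG_val hw (h i List.mem_cons_self),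
      ← elemP_val hw u fun j hj => h j (List.mem_cons_of_mem _ hj)]
    rfl

theorem elemP_eq (hw : w * w = w + 1) {u v : List ℕ} (hu : ∀ i ∈ u, i < 9) (hv : ∀ i ∈ v, i < 9)
    (h : sameG u v = true) : elemP w u = elemP w v :=
  Units.ext (by rw [elemP_val hw u hu, elemP_val hw v hv, eqL_sound h])

/-! ### the certificate of a scalar centraliser -/

theorem scalar_of_commute (hw : w * w = w + 1) {Z : Matrix ι ι K}
    (hZ : ∀ k, 1 ≤ k → k ≤ 8 → Z * (elemG w k : Matrix ι ι K) = (elemG w k : Matrix ι ι K) * Z) :
    ∃ d : K, Z = d • 1 := by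
  have hs := schurOK_true
  simp only [schurOK, Bool.and_eq_true, List.all_eq_true] at hs
  obtain ⟨⟨⟨⟨⟨⟨⟨houter, hk1⟩, hk2⟩, hbasis⟩, hl1⟩, hl2⟩, hl3⟩, hwords⟩ := hs
  have hcomm : ∀ u : List ℕ, (∀ i ∈ u, 1 ≤ i ∧ i ≤ 8) →
      Z * matOf w (prodG u) = matOf w (prodG u) * Z := by
    intro u hu
    rw [← elemP_val hw u fun i hi => by have := hu i hi; omega]
    induction u with
    | nil => simp [elemP]
    | cons i u ih =>
      have hi := hu i List.mem_cons_self
      rw [elemP, List.map_cons, List.prod_cons, Units.val_mul, ← mul_assoc, hZ i hi.1 hi.2, mul_assoc,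
        show ((u.map (elemG w)).prod : GL ι K) = elemP w u from rfl,
        ih fun j hj => hu j (List.mem_cons_of_mem _ hj), mul_assoc]
  have hbounds : ∀ u ∈ kerWords ++ spinWords, ∀ i ∈ u, 1 ≤ i ∧ i ≤ 8 := fun u hu i hi => by
    have this := hwords u hu i hi
    exact ⟨Nat.le_of_ble_eq_true this.1, Nat.le_of_ble_eq_true this.2⟩
  have hker : kerCols.length = 27 ∧ Z * matOf w kerCols = matOf w kerCols * Z := by
    unfold kerCols
    have : ∀ U : List (List ℕ), (∀ u ∈ U, u ∈ kerWords) →
        (U.foldr (fun u A => List.zipWith vx (prodG u) A) ((List.range 27).map fun _ => (0, 0))).length = 27 ∧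
        Z * matOf w (U.foldr (fun u A => List.zipWith vx (prodG u) A) ((List.range 27).map fun _ => (0, 0))) =
          matOf w (U.foldr (fun u A => List.zipWith vx (prodG u) A) ((List.range 27).map fun _ => (0, 0))) * Z := by
      intro U
      induction U with
      | nil =>
        intro _
        refine ⟨by simp, ?_⟩
        have e : matOf w ((List.range 27).map fun _ => ((0, 0) : Vc)) = 0 := by
          ext i k
          show dec w (((List.range 27).map fun _ => ((0, 0) : Vc)).getD (pos k) (0, 0)) (pos i) = _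
          rw [List.getD_eq_getElem?_getD, List.getElem?_map, List.getElem?_range (pos_lt k)]
          exact dec_zero w (pos i)
        rw [List.foldr_nil, e, mul_zero, zero_mul]
      | cons u U ih =>
        intro hU
        obtain ⟨l1, l2⟩ := ih fun v hv => hU v (List.mem_cons_of_mem _ hv)
        refine ⟨by rw [List.foldr_cons, List.length_zipWith, len_prodG, l1]; rfl, ?_⟩
        rw [List.foldr_cons, matOf_zipWith (len_prodG u) l1, mul_add, add_mul, l2,
          hcomm u (hbounds u (List.mem_append_left _ (hU u List.mem_cons_self)))]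
    exact this kerWords fun _ h => h
  set X := matOf w kerCols
  set v := vecOf w kerVec
  have hXv : X *ᵥ v = 0 := by
    rw [← vecOf_app hw hker.1,
      show app kerCols 0 kerVec = (0, 0) from Prod.ext (Nat.eq_of_beq_eq_true hk1) (Nat.eq_of_beq_eq_true hk2)]
    exact funext fun i => dec_zero w _
  have houter' : matOf w leftInv * X + 1 = Matrix.vecMulVec v (fun k => dec w kerFun (pos k)) := by
    rw [← matOf_map_app hw hker.1 (Nat.eq_of_beq_eq_true hl3), ← matOf_id (w := w),
      ← matOf_zipWith (by rw [List.length_map, hker.1]) (len_scRows id), eqL_sound houter]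
    ext i k
    show dec w (outerCols.getD (pos k) (0, 0)) (pos i) = _
    rw [outerCols, List.getD_eq_getElem?_getD, List.getElem?_map, List.getElem?_range (pos_lt k)]
    simp only [Option.map_some, Option.getD_some, dec_vx, dec_sel, dec_wm hw, Matrix.vecMulVec_apply]
    rw [show v i = dec w kerVec (pos i) from rfl, show dec w kerFun (pos k) =
      bitv (kerFun.1.testBit (pos k)) + bitv (kerFun.2.testBit (pos k)) * w from rfl]
    ring
  have hXu : X *ᵥ (Z *ᵥ v) = 0 := by
    rw [Matrix.mulVec_mulVec, ← hker.2, ← Matrix.mulVec_mulVec, hXv, Matrix.mulVec_zero]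
  obtain ⟨d, hd⟩ : ∃ d : K, Z *ᵥ v = d • v := by
    refine ⟨(fun k => dec w kerFun (pos k)) ⬝ᵥ (Z *ᵥ v), ?_⟩
    have := congrArg (fun M => M *ᵥ (Z *ᵥ v)) houter'
    simp only [Matrix.add_mulVec, Matrix.one_mulVec, ← Matrix.mulVec_mulVec _ (matOf w leftInv) X, hXu,
      Matrix.mulVec_zero, zero_add] at this
    conv_lhs => rw [this]
    ext i
    simp only [Matrix.mulVec, dotProduct, Matrix.vecMulVec_apply, Pi.smul_apply, smul_eq_mul, Finset.sum_mul]
    exact Finset.sum_congr rfl fun x _ => by ring
  refine ⟨d, ?_⟩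
  have hlen : spinCols.length = 27 := by rw [spinCols, List.length_map, Nat.eq_of_beq_eq_true hl1]
  have hS : Z * matOf w spinCols = d • matOf w spinCols := by
    ext i k
    have hk : pos k < spinWords.length := by rw [Nat.eq_of_beq_eq_true hl1]; exact pos_lt k
    have hu := hbounds _ (List.mem_append_right kerWords (List.getElem_mem hk))
    have hcol : (fun j => matOf w spinCols j k) = matOf w (prodG spinWords[pos k]) *ᵥ v := by
      rw [matOf_col, spinCols, List.getD_eq_getElem?_getD, List.getElem?_map,
        List.getElem?_eq_getElem hk]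
      exact vecOf_app hw (len_prodG _) _
    have e1 : (Z * matOf w spinCols) i k = (Z *ᵥ fun j => matOf w spinCols j k) i := rfl
    have e2 : (d • matOf w spinCols) i k = (d • fun j => matOf w spinCols j k) i := rfl
    rw [e1, e2, hcol, Matrix.mulVec_mulVec, hcomm _ hu, ← Matrix.mulVec_mulVec, hd, Matrix.mulVec_smul]
  have hinv : matOf w spinCols * matOf w spinInv = 1 := by
    rw [← matOf_map_app hw (Nat.eq_of_beq_eq_true hl2) hlen, eqL_sound hbasis, matOf_id]
  have := congrArg (· * matOf w spinInv) hS
  simpa [mul_assoc, hinv, Matrix.smul_mul] using this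

end CfsgLib.Chev.E62Fi22
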