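import Cfsg.Agent.Lib.Chev.E62Fi22.Classes
import Cfsg.Agent.Lib.OmegaSevenThree.Main
import Cfsg.Agent.S2604

/-!
Three classes of `Ω₇(3)` in the twisted group of type E6 over four elements, given that the last eight nodes of
`Fi₂₂` generate a copy of this group.
-/

set_option autoImplicit false
set_option maxRecDepth 100000

namespace CfsgLib.Chev.E62Fi22

open CfsgLib.KnownB.Fi22Mult (ndG)

/-- the subgroup generated by the last eight nodes -/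
abbrev lastEight : Subgroup Cfsg.Spor.Fi22 :=
  (Subgroup.closure ({Cfsg.Spor.Fi22.b, Cfsg.Spor.Fi22.c, Cfsg.Spor.Fi22.d, Cfsg.Spor.Fi22.e,
    Cfsg.Spor.Fi22.f, Cfsg.Spor.Fi22.g, Cfsg.Spor.Fi22.h, Cfsg.Spor.Fi22.i} :
      Set (FreeGroup Cfsg.Spor.Fi22.Gen))).map
    (PresentedGroup.mk (Cfsg.Spor.coxRelators Cfsg.Spor.Fi22.edges ∪ {r | r ∈ Cfsg.Spor.Fi22.extra}))

theorem mem_lastEight {k : ℕ} (h1 : 1 ≤ k) (h8 : k ≤ 8) :
    (PresentedGroup.of (ndG k) : Cfsg.Spor.Fi22) ∈ lastEight := by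
  refine ⟨FreeGroup.of (ndG k), Subgroup.subset_closure ?_, rfl⟩
  interval_cases k <;> simp [ndG, Cfsg.Spor.Fi22.b, Cfsg.Spor.Fi22.c, Cfsg.Spor.Fi22.d,
    Cfsg.Spor.Fi22.e, Cfsg.Spor.Fi22.f, Cfsg.Spor.Fi22.g, Cfsg.Spor.Fi22.h, Cfsg.Spor.Fi22.i]

/-- the quotient by the centre changes nothing -/
theorem omega_equiv : Nonempty (Cfsg.POmega (ZMod 3) (Cfsg.quadFormOdd 3 (ZMod 3)) ≃*
    Cfsg.Omega (ZMod 3) (Cfsg.quadFormOdd 3 (ZMod 3))) :=
  ⟨(MulEquiv.ofBijective OmegaSevenThree.proj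
    ⟨OmegaSevenThree.proj_injective, OmegaSevenThree.proj_surjective⟩).symm⟩

variable {K : Type*} [Field K] [Fintype K] [CharP K 2]

theorem omega_classes (hK : Fintype.card K = 4)
    (h : Nonempty (↥lastEight ≃* Cfsg.POmega (ZMod 3) (Cfsg.quadFormOdd 3 (ZMod 3)))) :
    ∃ H : Fin 3 → Subgroup (Cfsg.Lie.twistedE6 K 2),
      (∀ i, Nonempty ((H i) ≃* Cfsg.Omega (ZMod 3) (Cfsg.quadFormOdd 3 (ZMod 3)))) ∧
      (∀ i j, i ≠ j → ∀ g : (Cfsg.Lie.twistedE6 K 2), (H i).map (MulAut.conj g).toMonoidHom ≠ H j) := by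
  haveI : Fact (Nat.Prime 3) := ⟨Nat.prime_three⟩
  obtain ⟨e⟩ := h
  obtain ⟨o⟩ := omega_equiv
  obtain ⟨v⟩ := Cfsg.Agent.S2604.result (F := ZMod 3) (p := 3) (f := 1) (m := 3) le_rfl
    (by simp) (by norm_num) le_rfl
  have hout : Nat.card (Cfsg.Out ↥lastEight) = 2 := by
    rw [natCard_out_congr e, Nat.card_congr v.toEquiv]
    simp
  obtain ⟨H, h1, h2⟩ := classes hK lastEight (fun k a b => mem_lastEight a b) hout
  exact ⟨H, fun i => (h1 i).map fun f => (f.trans e).trans o, h2⟩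

end CfsgLib.Chev.E62Fi22
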