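import Cfsg.Agent.Lib.Chev.E62Fi22.Mats

/-!
The diagonal similitude of the cubic form and its effect on the root elements.
-/

set_option autoImplicit false
set_option maxRecDepth 100000
set_option linter.unusedSectionVars false

namespace CfsgLib.Chev.E62Fi22

open Matrix CfsgLib.Chev.E6Form

variable {K : Type*} [Field K] [CharP K 2] {w : K}

theorem cube_w (hw : w * w = w + 1) : w ^ 3 = 1 := by
  have h : w ^ 3 = w * (w + 1) := by rw [← hw]; ring
  rw [h, mul_add, mul_one, hw, add_right_comm, CharTwo.add_self_eq_zero, zero_add]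

theorem w_ne_one (hw : w * w = w + 1) : w ≠ 1 := fun h => by
  rw [h, one_mul, CharTwo.add_self_eq_zero] at hw
  exact one_ne_zero hw

theorem pow_w_mod (hw : w * w = w + 1) (a : ℕ) : w ^ a = w ^ (a % 3) := by
  conv_lhs => rw [← Nat.div_add_mod a 3, pow_add, pow_mul, cube_w hw, one_pow, one_mul]

/-- exponent at a coordinate -/
def expAt (i : ι) : ℕ := diagExp.getD (pos i) 0

/-- the diagonal similitude -/
noncomputable def simD (hw : w * w = w + 1) : GL ι K :=
  ⟨diagonal fun i => w ^ expAt i, diagonal fun i => w ^ (2 * expAt i),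
    by rw [diagonal_mul_diagonal, ← diagonal_one]; exact congrArg diagonal (funext fun i => by
      rw [← pow_add, pow_w_mod hw, show (expAt i + 2 * expAt i) % 3 = 0 by omega, pow_zero]),
    by rw [diagonal_mul_diagonal, ← diagonal_one]; exact congrArg diagonal (funext fun i => by
      rw [← pow_add, pow_w_mod hw, show (2 * expAt i + expAt i) % 3 = 0 by omega, pow_zero])⟩

theorem simD_apply (hw : w * w = w + 1) (v : ι → K) (i : ι) : ap (simD hw) v i = w ^ expAt i * v i :=
  Matrix.mulVec_diagonal _ _ _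

theorem simD_xE (hw : w * w = w + 1) {r : ℕ} (hr : r ∈ roots) (t : K) :
    simD hw * xE r t = xE r (w ^ rootExp r * t) * simD hw := by
  refine gl_ext fun v => funext fun i => ?_
  rw [ap_mul, ap_mul, simD_apply, xE_apply, xE_apply, simD_apply]
  have hdd : dd r (ap (simD hw) v) i * w ^ rootExp r = w ^ expAt i * dd r v i := by
    rw [dd, dd, ← cd_pos i, into_cd r (pos_lt i), List.map_map, List.map_map, cd_pos i,
      ← List.sum_map_mul_right, ← List.sum_map_mul_left]
    refine congrArg List.sum (List.map_congr_left fun e he => ?_)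
    obtain ⟨he1, he2⟩ := List.mem_filter.1 he
    have hd := of_decide_eq_true (List.all_eq_true.1 (List.all_eq_true.1 diagOK_true r hr) e he1)
    simp only [Function.comp, simD_apply]
    have hs : expAt (cd e.1) = diagExp.getD e.1 0 := by rw [expAt, pos_cd (ent_facts he1).1]
    have ht : expAt i = diagExp.getD e.2.1 0 := by rw [expAt, Nat.eq_of_beq_eq_true he2]
    rw [hs, ht, pow_w_mod hw (diagExp.getD e.2.1 0), hd, ← pow_w_mod hw, pow_add]
    ring
  rw [mul_add, show w ^ rootExp r * t * dd r (ap (simD hw) v) i =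
    t * (dd r (ap (simD hw) v) i * w ^ rootExp r) by ring, hdd]
  ring

theorem simD_pow_xE (hw : w * w = w + 1) {r : ℕ} (hr : r ∈ roots) (t : K) :
    ∀ n : ℕ, simD hw ^ n * xE r t * (simD hw ^ n)⁻¹ = xE r (w ^ (n * rootExp r) * t)
  | 0 => by simp
  | n + 1 => by
    rw [pow_succ', _root_.mul_inv_rev, show simD hw * simD hw ^ n * xE r t * ((simD hw ^ n)⁻¹ * (simD hw)⁻¹) =
      simD hw * (simD hw ^ n * xE r t * (simD hw ^ n)⁻¹) * (simD hw)⁻¹ by group, simD_pow_xE hw hr t n,
      simD_xE hw hr, mul_inv_cancel_right, Nat.succ_mul, pow_add]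
    congr 1
    ring

/-- the factor of a similitude -/
def SimF (g : GL ι K) (μ : K) : Prop := ∀ v, T (ap g v) = μ * T v

theorem SimF.mul {g h : GL ι K} {a b : K} (hg : SimF g a) (hh : SimF h b) : SimF (g * h) (a * b) :=
  fun v => by rw [ap_mul, hg, hh, mul_assoc]

theorem SimF.one : SimF (1 : GL ι K) 1 := fun v => by rw [ap_one, one_mul]

theorem SimF.pow {g : GL ι K} {a : K} (hg : SimF g a) : ∀ n : ℕ, SimF (g ^ n) (a ^ n)
  | 0 => by rw [pow_zero, pow_zero]; exact SimF.one
  | n + 1 => by rw [pow_succ, pow_succ]; exact (hg.pow n).mul hg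

theorem simD_factor (hw : w * w = w + 1) : SimF (simD hw) (w ^ 2) := fun v => by
  show TL (monN.map _) _ = _ * TL (monN.map _) _
  unfold TL
  rw [List.map_map, List.map_map, ← List.sum_map_mul_left]
  refine congrArg List.sum (List.map_congr_left fun m hm => ?_)
  have hb := List.all_eq_true.1 formOK_true m hm
  have h2 := of_decide_eq_true hb
  have hlt : m.1 < 27 ∧ m.2.1 < 27 ∧ m.2.2.1 < 27 := by
    revert m
    decide +kernel
  simp only [Function.comp, simD_apply, expAt, pos_cd hlt.1, pos_cd hlt.2.1, pos_cd hlt.2.2]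
  have key : w ^ diagExp.getD m.1 0 * w ^ diagExp.getD m.2.1 0 * w ^ diagExp.getD m.2.2.1 0 = w ^ 2 := by
    rw [← pow_add, ← pow_add, pow_w_mod hw, h2]
  linear_combination ((m.2.2.2 : K) * (v (cd m.1) * v (cd m.2.1) * v (cd m.2.2.1))) * key

theorem TL_smul (c : K) (v : ι → K) : ∀ L : List (ι × ι × ι × ℤ), TL L (c • v) = c ^ 3 * TL L v
  | [] => by simp [TL]
  | m :: L => by
    have ih := TL_smul c v L
    simp only [TL, List.map_cons, List.sum_cons, Pi.smul_apply, smul_eq_mul] at ih ⊢
    rw [ih]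
    ring

/-- a vector where the form is one -/
noncomputable def unitVec : ι → K := fun i => bitv (decide (pos i ∈ [0, 4, 8]))

theorem T_unitVec : T (unitVec : ι → K) = 1 := by
  show TL (monN.map _) _ = _
  unfold TL
  rw [List.map_map, List.map_congr_left (g := fun m : ℕ × ℕ × ℕ × ℤ =>
    (m.2.2.2 : K) * bitv (decide (m.1 ∈ [0, 4, 8] ∧ m.2.1 ∈ [0, 4, 8] ∧ m.2.2.1 ∈ [0, 4, 8]))) (fun m hm => ?_)]
  · simp [monN, bitv]
  · have hlt : m.1 < 27 ∧ m.2.1 < 27 ∧ m.2.2.1 < 27 := by
      revert m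
      decide +kernel
    simp only [Function.comp, unitVec, pos_cd hlt.1, pos_cd hlt.2.1, pos_cd hlt.2.2]
    by_cases h1 : m.1 ∈ [0, 4, 8] <;> by_cases h2 : m.2.1 ∈ [0, 4, 8] <;>
      by_cases h3 : m.2.2.1 ∈ [0, 4, 8] <;> simp_all [bitv]

theorem SimF.unique {g : GL ι K} {a b : K} (ha : SimF g a) (hb : SimF g b) : a = b := by
  have h := (ha unitVec).symm.trans (hb unitVec)
  rwa [T_unitVec, mul_one, mul_one] at h

end CfsgLib.Chev.E62Fi22
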